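import Groth.Agent.Tors9.Amitsur
import Groth.Agent.DescLib.Amitsur
import Mathlib.RingTheory.Flat.TorsionFree
import Mathlib.RingTheory.Flat.Localization
import Mathlib.RingTheory.Flat.Stability

/-!
# Cocycles of the deformation of the multiplicative group to the additive group
-/

set_option autoImplicit false
set_option backward.isDefEq.respectTransparency false
set_option backward.isDefEq.respectTransparency.types false
universe u

open TensorProduct Groth.Agent.Tors9

noncomputable section

namespace Groth.Agent.GlamTors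

variable {R B : Type u} [CommRing R] [CommRing B] [Algebra R B]

/-- A member of the descended line of a cocycle which is trivial modulo `l` descends modulo `l`. -/
theorem line_mod [Module.FaithfullyFlat R B] (l : R) (t : B ⊗[R] B) (b : B)
    (hb : iL R B b = (1 + algebraMap R (B ⊗[R] B) l * t) * iR R B b) :
    ∃ (a : R) (b₁ : B), b = algebraMap R B a + algebraMap R B l * b₁ := by
  let g : R × B →ₗ[R] B := (Algebra.linearMap R B).coprod (l • LinearMap.id)
  have hg : ∀ (a : R) (x : B), g (a, x) = algebraMap R B a + algebraMap R B l * x := fun a x => by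
    simp [g, Algebra.smul_def]
  suffices h : b ∈ LinearMap.range g by
    obtain ⟨⟨a, x⟩, hx⟩ := h
    exact ⟨a, x, by rw [← hg, hx]⟩
  refine DescLib.mem_range_of_one_tmul_mem (A := B) g b ⟨b ⊗ₜ[R] (1, 0) -
    (LinearMap.inr R R B).lTensor B (t * iR R B b), ?_⟩
  have hc : (g.comp (LinearMap.inr R R B)).lTensor B (t * iR R B b) =
      algebraMap R (B ⊗[R] B) l * (t * iR R B b) := by
    rw [show g.comp (LinearMap.inr R R B) = l • LinearMap.id from
      LinearMap.ext fun x => by simp [g], LinearMap.lTensor_smul, LinearMap.lTensor_id, LinearMap.smul_apply,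
      LinearMap.id_apply, Algebra.smul_def]
  rw [map_sub, LinearMap.lTensor_tmul, ← LinearMap.comp_apply, ← LinearMap.lTensor_comp, hc, hg, map_one,
    mul_zero, add_zero]
  change iL R B b - _ = iR R B b
  rw [hb]
  ring

/-- The map of squares under a change of algebra. -/
abbrev sq {R' B' : Type u} [CommRing R'] [CommRing B'] [Algebra R R'] [Algebra R B'] [Algebra R' B']
    [IsScalarTower R R' B'] (q : B →ₐ[R] B') : B ⊗[R] B →ₐ[R] B' ⊗[R'] B' :=
  Algebra.TensorProduct.productMap (((iL R' B').restrictScalars R).comp q) (((iR R' B').restrictScalars R).comp q)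

theorem sq_iL {R' B' : Type u} [CommRing R'] [CommRing B'] [Algebra R R'] [Algebra R B'] [Algebra R' B']
    [IsScalarTower R R' B'] (q : B →ₐ[R] B') (x : B) : sq (R' := R') q (iL R B x) = iL R' B' (q x) := by
  simp [sq]

theorem sq_iR {R' B' : Type u} [CommRing R'] [CommRing B'] [Algebra R R'] [Algebra R B'] [Algebra R' B']
    [IsScalarTower R R' B'] (q : B →ₐ[R] B') (x : B) : sq (R' := R') q (iR R B x) = iR R' B' (q x) := by
  simp [sq]

theorem mul_law_aux {S : Type u} [CommRing S] (L t a b : S) (h : 1 + L * b = (1 + L * t) * (1 + L * a)) :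
    L * (t + a + L * (t * a)) = L * b := by
  linear_combination -h

theorem iL_algebraMap {R' B' : Type u} [CommRing R'] [CommRing B'] [Algebra R R'] [Algebra R B'] [Algebra R' B']
    [IsScalarTower R R' B'] (x : R) : iL R' B' (algebraMap R B' x) = algebraMap R (B' ⊗[R'] B') x := rfl

theorem iR_algebraMap {R' B' : Type u} [CommRing R'] [CommRing B'] [Algebra R R'] [Algebra R B'] [Algebra R' B']
    [IsScalarTower R R' B'] (x : R) : iR R' B' (algebraMap R B' x) = algebraMap R (B' ⊗[R'] B') x :=
  ((iR R' B').restrictScalars R).commutes x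

/-- Near every prime a cocycle of the group with law `s + t + l s t` is a coboundary. -/
theorem exists_coboundary [Module.FaithfullyFlat R B] (l : R) (hl : IsSMulRegular R l) (t : B ⊗[R] B)
    (hU : IsUnit (1 + algebraMap R (B ⊗[R] B) l * t))
    (h : e₁₃ R B t = e₁₂ R B t + e₂₃ R B t + algebraMap R _ l * (e₁₂ R B t * e₂₃ R B t))
    (p : PrimeSpectrum R) :
    ∃ r ∉ p.asIdeal, ∃ s : Localization.Away r ⊗[R] B,
      IsUnit (1 + algebraMap R (Localization.Away r ⊗[R] B) l * s) ∧
      sq (R' := Localization.Away r) Algebra.TensorProduct.includeRight t +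
          iR (Localization.Away r) (Localization.Away r ⊗[R] B) s +
          algebraMap R _ l * (sq (R' := Localization.Away r) Algebra.TensorProduct.includeRight t *
            iR (Localization.Away r) (Localization.Away r ⊗[R] B) s) =
        iL (Localization.Away r) (Localization.Away r ⊗[R] B) s := by
  have hτ : e₁₃ R B hU.unit = e₁₂ R B hU.unit * e₂₃ R B hU.unit := by
    simp only [IsUnit.unit_spec, map_add, map_one, map_mul, AlgHom.commutes, h]
    ring
  obtain ⟨r₀, hr₀, b, hb, b', hbb'⟩ := exists_line_pair hU.unit hτ p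
  have hb' : iL R B b = (1 + algebraMap R (B ⊗[R] B) l * t) * iR R B b := hb
  obtain ⟨a₀, b₁, hab⟩ := line_mod l t b hb'
  obtain ⟨P, hP⟩ := PrimeSpectrum.comap_surjective_of_faithfullyFlat (A := R) (B := B) p
  have hbP : b ∉ P.asIdeal := fun hbm => hr₀ (by
    rw [← hP]; exact (congrArg (· ∈ P.asIdeal) hbb') ▸ P.asIdeal.mul_mem_right b' hbm)
  obtain ⟨r, a, hr, har, hdvd⟩ : ∃ r a : R, r ∉ p.asIdeal ∧ (r₀ * a ∣ r) ∧
      (l ∣ r ∨ ∃ b₁ : B, b = algebraMap R B a + algebraMap R B l * b₁) := by
    by_cases hlp : l ∈ p.asIdeal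
    · refine ⟨r₀ * a₀, a₀, p.2.mul_notMem hr₀ fun ha => hbP ?_, dvd_rfl, .inr ⟨b₁, hab⟩⟩
      rw [hab]
      rw [← hP] at ha hlp
      exact add_mem ha (P.asIdeal.mul_mem_right _ hlp)
    · exact ⟨r₀ * l, 1, p.2.mul_notMem hr₀ hlp, by rw [mul_one]; exact dvd_mul_right _ _, .inl (dvd_mul_left _ _)⟩
  refine ⟨r, hr, ?_⟩
  let R' := Localization.Away r
  let B' := R' ⊗[R] B
  let q : B →ₐ[R] B' := Algebra.TensorProduct.includeRight
  have hdu : ∀ x : R, x ∣ r → IsUnit (algebraMap R R' x) := fun x hx =>
    isUnit_of_dvd_unit (map_dvd _ hx) (IsLocalization.Away.algebraMap_isUnit r)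
  obtain ⟨ua, hua⟩ := hdu a ((dvd_mul_left _ _).trans har)
  have hqb : IsUnit (q b) := by
    refine isUnit_of_mul_isUnit_left (y := q b') ?_
    rw [← map_mul, hbb', AlgHom.commutes, IsScalarTower.algebraMap_apply R R' B']
    exact (hdu r₀ ((dvd_mul_right _ _).trans har)).map _
  let c : B' := q b * algebraMap R' B' ↑ua⁻¹
  have hc : ∃ s : B', c = 1 + algebraMap R B' l * s := by
    rcases hdvd with hd | ⟨b₂, hb₂⟩
    · obtain ⟨ul, hul⟩ := hdu l hd
      refine ⟨algebraMap R' B' ↑ul⁻¹ * (c - 1), ?_⟩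
      rw [← mul_assoc, IsScalarTower.algebraMap_apply R R' B', ← hul, ← map_mul, Units.mul_inv, map_one, one_mul,
        add_sub_cancel]
    · refine ⟨q b₂ * algebraMap R' B' ↑ua⁻¹, ?_⟩
      simp only [c]
      rw [hb₂, map_add, map_mul, AlgHom.commutes, AlgHom.commutes, add_mul, IsScalarTower.algebraMap_apply R R' B' a,
        ← hua, ← map_mul, Units.mul_inv, map_one, mul_assoc]
  obtain ⟨s, hs⟩ := hc
  refine ⟨s, hs ▸ hqb.mul ((ua⁻¹).isUnit.map _), ?_⟩
  have hrel : iL R' B' c = (1 + algebraMap R _ l * sq (R' := R') q t) * iR R' B' c := by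
    have h1 := congrArg (sq (R' := R') q) hb'
    rw [map_mul, map_add, map_one, map_mul, AlgHom.commutes, sq_iL, sq_iR] at h1
    simp only [c, map_mul, AlgHom.commutes]
    rw [h1]
    ring
  haveI : Module.Flat R (B' ⊗[R'] B') := Module.Flat.trans R R' (B' ⊗[R'] B')
  have hreg := Module.Flat.isSMulRegular_of_nonZeroDivisors (M := B' ⊗[R'] B')
    (mem_nonZeroDivisors_iff_right.2 fun x hx => hl.right_eq_zero_of_smul (by rw [smul_eq_mul, mul_comm]; exact hx))
  have hmul : ∀ x y : B' ⊗[R'] B', algebraMap R _ l * x = algebraMap R _ l * y → x = y := fun x y e =>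
    hreg ((Algebra.smul_def l x).trans (e.trans (Algebra.smul_def l y).symm))
  apply hmul
  rw [hs, map_add, map_one, map_mul, iL_algebraMap, map_add, map_one, map_mul, iR_algebraMap] at hrel
  exact mul_law_aux _ _ _ _ hrel

end Groth.Agent.GlamTors
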