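import Groth.Agent.GlamTors.Kernel
import Groth.Agent.SekSuwaLib.Points

/-!
# Coordinates of the points of `G^(λ)` and of the multiplicative group
-/

set_option autoImplicit false
set_option linter.style.haveILetI false
set_option backward.isDefEq.respectTransparency.types false
universe u

open CategoryTheory CategoryTheory.Limits MonoidalCategory CartesianMonoidalCategory MonObj GrpObj AlgebraicGeometry

noncomputable section

namespace Groth.Agent.GlamTors

variable {O : Type u} [CommRing O] (lam : O) {X : Scheme.{u}} (f : X ⟶ Spec (CommRingCat.of O))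
variable {T T' : Over X}

/-- The multiplicative group over `X`. -/
abbrev GmX : Over X := Red.bc f (Red.diag O ℤ)

/-- The function `λ` on an `X`-scheme. -/
def lamF (T : Over X) : Γ(T.left, ⊤) := SekSuwaLib.strHom ((Over.map f).obj T) lam

/-- The function of a point of the multiplicative group. -/
def zv (g : T ⟶ GmX f) : Γ(T.left, ⊤) :=
  SekSuwaLib.ptRingHom (R := O) (DSPtsLib.theta f g) (MonoidAlgebra.single (Multiplicative.ofAdd (1 : ℤ)) 1)

/-- The coordinate of a point of `G^(λ)`. -/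
def tv (g : T ⟶ Red.bc f (SekSuwa.G O lam)) : Γ(T.left, ⊤) :=
  SekSuwaLib.ptRingHom (R := O) (DSPtsLib.theta f g) SekSuwa.A.t

theorem zv_alpha (g : T ⟶ Red.bc f (SekSuwa.G O lam)) :
    zv f (g ≫ (Over.pullback f).map (SekSuwa.alpha O lam)) = 1 + lamF lam f T * tv lam f g := by
  have h : DSPtsLib.theta f (g ≫ (Over.pullback f).map (SekSuwa.alpha O lam)) =
      DSPtsLib.theta f g ≫ SekSuwa.alpha O lam :=
    (Over.mapPullbackAdj f).homEquiv_naturality_right_symm g (SekSuwa.alpha O lam)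
  rw [zv, h, SekSuwa.alpha, SekSuwaLib.ptRingHom_comp_specHom, SekSuwa.alphaHom_single_one, SekSuwa.A.u_def,
    map_add, map_one, map_mul, SekSuwaLib.ptRingHom_algebraMap]
  rfl

theorem zv_comp (c : T' ⟶ T) (g : T ⟶ GmX f) : zv f (c ≫ g) = c.left.appTop (zv f g) := by
  rw [zv, DSPtsLib.theta_comp]
  simp only [SekSuwaLib.ptRingHom, Over.comp_left, Scheme.Hom.comp_appTop]
  rfl

theorem lamF_comp (c : T' ⟶ T) : c.left.appTop (lamF lam f T) = lamF lam f T' := by
  have h : T'.hom ≫ f = c.left ≫ T.hom ≫ f := by rw [← Category.assoc, Over.w c]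
  show _ = ((Scheme.ΓSpecIso (CommRingCat.of O)).inv ≫ (T'.hom ≫ f).appTop).hom lam
  rw [h, Scheme.Hom.comp_appTop]
  rfl

theorem zv_inj {g g' : T ⟶ GmX f} (h : zv f g = zv f g') : g = g' := by
  refine (DSPtsLib.theta_bijective f).1 (SekSuwaLib.ptRingHom_injective ?_)
  letI := SekSuwaLib.algΓ ((Over.map f).obj T)
  let mk : (T ⟶ GmX f) → (MonoidAlgebra O (Multiplicative ℤ) →ₐ[O] Γ(((Over.map f).obj T).left, ⊤)) := fun g =>
    { SekSuwaLib.ptRingHom (R := O) (DSPtsLib.theta f g) with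
      commutes' := fun r => SekSuwaLib.ptRingHom_algebraMap (DSPtsLib.theta f g) r }
  have e : mk g = mk g' := by
    apply (MonoidAlgebra.lift O _ _).symm.injective
    apply MonoidHom.ext_mint
    exact h
  exact congrArg AlgHom.toRingHom e

theorem exists_zv (w : Γ(T.left, ⊤)ˣ) : ∃ g : T ⟶ GmX f, zv f g = w := by
  letI := SekSuwaLib.algΓ ((Over.map f).obj T)
  let w' : Γ(((Over.map f).obj T).left, ⊤)ˣ := w
  let φ : MonoidAlgebra O (Multiplicative ℤ) →ₐ[O] Γ(((Over.map f).obj T).left, ⊤) :=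
    MonoidAlgebra.lift O _ _ ((Units.coeHom _).comp (zpowersHom _ w'))
  obtain ⟨g, hg⟩ := (DSPtsLib.theta_bijective f).2 (SekSuwaLib.ofRingHom φ.toRingHom fun r => φ.commutes r)
  refine ⟨g, ?_⟩
  rw [zv, hg, SekSuwaLib.ptRingHom_ofRingHom]
  change φ _ = _
  rw [MonoidAlgebra.lift_single, one_smul, MonoidHom.comp_apply, zpowersHom_apply, toAdd_ofAdd, zpow_one]
  rfl

theorem isUnit_zv (g : T ⟶ GmX f) : IsUnit (zv f g) := by
  refine IsUnit.map _ (IsUnit.of_mul_eq_one (MonoidAlgebra.single (Multiplicative.ofAdd (-1 : ℤ)) 1) ?_)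
  rw [MonoidAlgebra.single_mul_single, _root_.mul_one, ← ofAdd_add, add_neg_cancel, ofAdd_zero, MonoidAlgebra.one_def]

theorem zv_one : zv f (1 : T ⟶ GmX f) = 1 := by
  have h : DSPtsLib.theta f (1 : T ⟶ GmX f) = toUnit _ ≫ η[SekSuwaLib.aff O (MonoidAlgebra O (Multiplicative ℤ))] := by
    have h2 := (congrArg (DSPtsLib.theta f) (_root_.one_mul (1 : T ⟶ GmX f))).symm.trans
      (DSPtsLib.theta_mul f (1 : T ⟶ GmX f) 1)
    rw [← Hom.one_def]
    letI : Group ((Over.map f).obj T ⟶ Red.diag O ℤ) := CategoryTheory.Hom.group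
    exact mul_eq_left.mp h2.symm
  rw [zv, h, SekSuwaLib.ptRingHom_one]
  simp

theorem exists_tv (c : Γ(T.left, ⊤)) (hc : IsUnit (1 + lamF lam f T * c)) :
    ∃ g : T ⟶ Red.bc f (SekSuwa.G O lam), tv lam f g = c := by
  letI := SekSuwaLib.algΓ ((Over.map f).obj T)
  let c' : Γ(((Over.map f).obj T).left, ⊤) := c
  obtain ⟨v, hv⟩ := isUnit_iff_exists_inv.1 hc
  let v' : Γ(((Over.map f).obj T).left, ⊤) := v
  have hv' : (1 + lam • c') * v' = 1 := (congrArg (fun z => (1 + z) * v') (Algebra.smul_def lam c')).trans hv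
  let φ : SekSuwa.A O lam →ₐ[O] Γ(((Over.map f).obj T).left, ⊤) := SekSuwa.A.lift O lam c' v' hv'
  obtain ⟨g, hg⟩ := (DSPtsLib.theta_bijective f).2 (SekSuwaLib.ofRingHom φ.toRingHom fun r => φ.commutes r)
  refine ⟨g, ?_⟩
  rw [tv, hg, SekSuwaLib.ptRingHom_ofRingHom]
  exact (SekSuwa.A.lift_t c' v' hv' :)

theorem tv_inj {g g' : T ⟶ Red.bc f (SekSuwa.G O lam)} (h : tv lam f g = tv lam f g') : g = g' := by
  refine (DSPtsLib.theta_bijective f).1 (SekSuwaLib.ptRingHom_injective ?_)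
  letI := SekSuwaLib.algΓ ((Over.map f).obj T)
  let mk : (T ⟶ Red.bc f (SekSuwa.G O lam)) → (SekSuwa.A O lam →ₐ[O] Γ(((Over.map f).obj T).left, ⊤)) := fun g =>
    { SekSuwaLib.ptRingHom (R := O) (DSPtsLib.theta f g) with
      commutes' := fun r => SekSuwaLib.ptRingHom_algebraMap (DSPtsLib.theta f g) r }
  have e : mk g = mk g' := by
    refine SekSuwa.A.algHom_ext h ?_
    have h1 := congrArg (mk g) (SekSuwa.A.u_mul_inv (R := O) (lam := lam))
    have h2 := congrArg (mk g') (SekSuwa.A.u_mul_inv (R := O) (lam := lam))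
    rw [map_mul, map_one, SekSuwa.A.u_def, map_add, map_one, map_mul, AlgHom.commutes] at h1 h2
    have h' : mk g SekSuwa.A.t = mk g' SekSuwa.A.t := h
    rw [h'] at h1
    exact left_inv_eq_right_inv (by rw [mul_comm]; exact h1) h2
  exact congrArg AlgHom.toRingHom e

theorem alpha_inj [Flat (T.hom ≫ f)] (hlam : lam ∈ nonZeroDivisors O)
    {g g' : T ⟶ Red.bc f (SekSuwa.G O lam)}
    (h : g ≫ (Over.pullback f).map (SekSuwa.alpha O lam) = g' ≫ (Over.pullback f).map (SekSuwa.alpha O lam)) :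
    g = g' := by
  have h1 := congrArg (zv f) h
  rw [zv_alpha, zv_alpha, add_right_inj] at h1
  refine tv_inj lam f (sub_eq_zero.1 ?_)
  haveI : Flat ((Over.map f).obj T).hom := ‹Flat (T.hom ≫ f)›
  refine SekSuwaLib.eq_zero_of_mul_eq_zero (T := (Over.map f).obj T) hlam ?_
  show lamF lam f T * _ = 0
  rw [mul_sub, h1, sub_self]

theorem alpha_eq_one (hT : lamF lam f T = 0) (g : T ⟶ Red.bc f (SekSuwa.G O lam)) :
    g ≫ (Over.pullback f).map (SekSuwa.alpha O lam) = 1 :=
  zv_inj f (by rw [zv_alpha, zv_one, hT, zero_mul, add_zero])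

end Groth.Agent.GlamTors
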