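import Groth.Prelude.Def_SekSuwa
import Mathlib.RingTheory.Localization.Away.AdjoinRoot
import Mathlib.RingTheory.FinitePresentation
import Mathlib.RingTheory.Flat.Stability
import Mathlib.RingTheory.Flat.Localization
import Mathlib.RingTheory.Polynomial.Basic

/-!
# The coordinate ring of `G^(λ)` is a flat algebra of finite presentation
-/

set_option autoImplicit false
universe u

open Polynomial

namespace Groth.Agent.GlamTors

variable (O : Type u) [CommRing O] (lam : O)

theorem exists_equiv_away :
    Nonempty (Localization.Away (1 + C lam * X : O[X]) ≃ₐ[O] SekSuwa.A O lam) := by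
  let r : O[X] := 1 + C lam * X
  let L := Localization.Away r
  let x : L := algebraMap O[X] L X
  have hr : algebraMap O[X] L r = 1 + lam • x := by
    simp only [r, x, map_add, map_one, map_mul, Algebra.smul_def, Polynomial.C_eq_algebraMap,
      ← IsScalarTower.algebraMap_apply]
  obtain ⟨v, hv⟩ := isUnit_iff_exists_inv.1 (IsLocalization.Away.algebraMap_isUnit (S := L) r)
  rw [hr] at hv
  let φ : SekSuwa.A O lam →ₐ[O] L := SekSuwa.A.lift O lam x v hv
  have hu : aeval (SekSuwa.A.t : SekSuwa.A O lam) r = SekSuwa.A.u := by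
    simp [r, SekSuwa.A.u, Algebra.smul_def]
  have hψ : ∀ y : Submonoid.powers r, IsUnit (aeval (SekSuwa.A.t : SekSuwa.A O lam) (y : O[X])) := by
    rintro ⟨_, k, rfl⟩
    rw [map_pow, hu]
    exact SekSuwa.A.isUnit_u.pow k
  let ψ : L →ₐ[O] SekSuwa.A O lam := IsLocalization.liftAlgHom (f := aeval (SekSuwa.A.t : SekSuwa.A O lam)) hψ
  have hψx : ψ x = SekSuwa.A.t := by simp [ψ, x]
  refine ⟨AlgEquiv.ofAlgHom ψ φ (SekSuwa.A.algHom_ext ?_ ?_) (IsLocalization.algHom_ext (Submonoid.powers r) ?_)⟩
  · simp only [AlgHom.comp_apply, φ, SekSuwa.A.lift_t, hψx, AlgHom.id_apply]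
  · simp only [AlgHom.comp_apply, φ, SekSuwa.A.lift_inv, AlgHom.id_apply]
    have h := congrArg ψ hv
    rw [map_mul, map_one, map_add, map_one, map_smul, hψx] at h
    exact left_inv_eq_right_inv (by rw [mul_comm]; exact h) (SekSuwa.A.u_mul_inv (R := O) (lam := lam))
  · refine Polynomial.algHom_ext ?_
    show φ (ψ x) = x
    rw [hψx]
    exact SekSuwa.A.lift_t _ _ hv

theorem flat_A : Module.Flat O (SekSuwa.A O lam) := by
  obtain ⟨e⟩ := exists_equiv_away O lam
  haveI : Module.Flat O[X] (Localization.Away (1 + C lam * X : O[X])) :=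
    IsLocalization.flat _ (Submonoid.powers (1 + C lam * X : O[X]))
  haveI : Module.Flat O (Localization.Away (1 + C lam * X : O[X])) := Module.Flat.trans O O[X] _
  exact Module.Flat.of_linearEquiv e.symm.toLinearEquiv

theorem finitePresentation_A : Algebra.FinitePresentation O (SekSuwa.A O lam) := by
  obtain ⟨e⟩ := exists_equiv_away O lam
  haveI : Algebra.FinitePresentation O[X] (Localization.Away (1 + C lam * X : O[X])) :=
    IsLocalization.Away.finitePresentation (1 + C lam * X : O[X])
  haveI : Algebra.FinitePresentation O (Localization.Away (1 + C lam * X : O[X])) :=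
    Algebra.FinitePresentation.trans O O[X] _
  exact Algebra.FinitePresentation.equiv e

end Groth.Agent.GlamTors
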