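import Groth.Agent.GlamTors.Points
import Groth.Agent.SekSuwaLib.GKPoints
import Groth.Agent.SchTorsor.NormalExt
import Groth.Agent.EtFound.Descent
import Groth.Agent.GrpSchLib.FieldSmooth
import Groth.Prelude.Def_SekSuwa2
import Mathlib.AlgebraicGeometry.ResidueField
import Mathlib.RingTheory.Flat.FaithfullyFlat.Basic
import Mathlib.RingTheory.Finiteness.Basic

/-!
# The filtration of the torsors under `μ_N` by the torsors under `G_{λ,N}`
-/

set_option autoImplicit false
set_option linter.style.haveILetI false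
set_option backward.isDefEq.respectTransparency.types false
universe u

open CategoryTheory CategoryTheory.Limits MonoidalCategory CartesianMonoidalCategory MonObj GrpObj AlgebraicGeometry
open scoped TensorProduct
open Groth.Agent.GrpSchLib.AffineHopf Groth.Agent.Tors9 WithConv

noncomputable section

namespace Groth.Agent.GlamTors

section Algebra

variable {O : Type u} [CommRing O] {lam : O} {N : ℕ} (h : SekSuwa.DivCond lam N) {C : Type u} [CommRing C] [Algebra O C]

/-- Restriction along `α` is bijective on points when `λ` is invertible. -/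
theorem bijective_alphaN (hN : 0 < N) (hl : IsUnit (algebraMap O C lam)) :
    Function.Bijective fun φ : SekSuwa.AK O lam N h →ₐ[O] C =>
      φ.comp (SekSuwa.alphaNHom O lam N h : MonoidAlgebra O (Multiplicative (ZMod N)) →ₐ[O] SekSuwa.AK O lam N h) := by
  haveI : NeZero N := ⟨hN.ne'⟩
  have hval : ∀ φ : SekSuwa.AK O lam N h →ₐ[O] C,
      φ (SekSuwa.alphaNHom O lam N h (MonoidAlgebra.single (Multiplicative.ofAdd (1 : ZMod N)) 1)) =
        1 + algebraMap O C lam * φ SekSuwa.AK.t := fun φ => by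
    rw [SekSuwa.alphaNHom_single_one, map_add, map_one, map_smul, Algebra.smul_def]
  constructor
  · intro φ φ' e
    have e1 := DFunLike.congr_fun e (MonoidAlgebra.single (Multiplicative.ofAdd (1 : ZMod N)) 1)
    change φ (SekSuwa.alphaNHom O lam N h _) = φ' (SekSuwa.alphaNHom O lam N h _) at e1
    rw [hval, hval, add_right_inj, hl.mul_right_inj] at e1
    exact SekSuwa.AK.algHom_ext e1 (by
      rw [SekSuwaLib.inv_eq h hN, map_pow, map_pow, map_add, map_add, map_one, map_one, map_smul, map_smul, e1])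
  · intro ψ
    set z := ψ (MonoidAlgebra.single (Multiplicative.ofAdd (1 : ZMod N)) 1) with hz
    have hzN : z ^ N = 1 := by
      rw [hz, ← map_pow, MonoidAlgebra.single_pow, one_pow, ← ofAdd_nsmul, nsmul_one, ZMod.natCast_self, ofAdd_zero,
        ← MonoidAlgebra.one_def, map_one]
    obtain ⟨u, hu⟩ := hl
    let t : C := (↑u⁻¹ : C) * (z - 1)
    have hlt : algebraMap O C lam * t = z - 1 := by rw [← hu, ← _root_.mul_assoc, Units.mul_inv, _root_.one_mul]
    have hinv : (1 + lam • t) * z ^ (N - 1) = 1 := by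
      rw [Algebra.smul_def, hlt, add_sub_cancel, ← pow_succ', show N - 1 + 1 = N by omega, hzN]
    have hP : Polynomial.aeval t (SekSuwa.psiPoly lam N h) = 0 := by
      have h1 := SekSuwa.aeval_psiPoly h t
      rw [hlt, add_sub_cancel, hzN, sub_self, map_pow] at h1
      exact ((hu ▸ u.isUnit : IsUnit (algebraMap O C lam)).pow N).mul_right_eq_zero.mp h1
    let φ : SekSuwa.AK O lam N h →ₐ[O] C :=
      Ideal.Quotient.liftₐ (SekSuwa.kerIdeal lam N h) (SekSuwa.A.lift O lam t (z ^ (N - 1)) hinv) (by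
        intro w hw
        obtain ⟨c, rfl⟩ := Ideal.mem_span_singleton'.mp hw
        rw [map_mul, SekSuwa.kerGen, ← Polynomial.aeval_algHom_apply, SekSuwa.A.lift_t, hP, mul_zero])
    refine ⟨φ, MonoidAlgebra.algHom_ext (fun m => ?_) (Subsingleton.elim _ _)⟩
    obtain ⟨k, rfl⟩ : ∃ k : ℕ, m = Multiplicative.ofAdd (1 : ZMod N) ^ k :=
      ⟨m.toAdd.val, by rw [← ofAdd_nsmul, nsmul_one, ZMod.natCast_zmod_val, ofAdd_toAdd]⟩
    rw [← one_pow (M := O) k, ← MonoidAlgebra.single_pow, map_pow, map_pow]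
    congr 1
    change φ (SekSuwa.alphaNHom O lam N h _) = _
    rw [hval, show φ SekSuwa.AK.t = t from SekSuwa.A.lift_t _ _ hinv, hlt, add_sub_cancel, hz]

end Algebra

section Points

variable {O : Type u} [CommRing O] {X : Scheme.{u}} (f : X ⟶ Spec (CommRingCat.of O))
variable {H H' : Type u} [CommRing H] [CommRing H'] [HopfAlgebra O H] [HopfAlgebra O H']
variable {R : Type u} [CommRing R] (j : Spec (CommRingCat.of R) ⟶ X) [Algebra O R]
  (hj : j ≫ f = Spec.map (CommRingCat.ofHom (algebraMap O R)))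
variable {C : Type u} [CommRing C] [Algebra R C] [Algebra O C] [IsScalarTower O R C]

include hj in
/-- The algebra map of a point of a base changed affine group. -/
def phiH (g : P j C ⟶ Red.bc f (sp O H)) : H →ₐ[O] C :=
  (Spec.mapMulEquiv.symm (toBase f j hj C ≫ DSPtsLib.theta f g)).ofConv

theorem phiH_spec (g : P j C ⟶ Red.bc f (sp O H)) :
    spMap (phiH f j hj g) = toBase f j hj C ≫ DSPtsLib.theta f g := by
  rw [spMap_eq_mapMulEquiv, phiH, toConv_ofConv]
  exact Spec.mapMulEquiv.apply_symm_apply _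

theorem phiH_bijective : Function.Bijective (phiH f j hj (H := H) (C := C)) := by
  haveI : IsIso ((Over.forget _).map (toBase f j hj C)) := inferInstanceAs (IsIso (𝟙 _))
  haveI : IsIso (toBase f j hj C) := isIso_of_reflects_iso (toBase f j hj C) (Over.forget _)
  constructor
  · intro g g' e
    have e' := congrArg spMap e
    rw [phiH_spec, phiH_spec] at e'
    exact (DSPtsLib.theta_bijective f).1 ((cancel_epi (toBase f j hj C)).1 e')
  · intro φ
    obtain ⟨g, hg⟩ := (DSPtsLib.theta_bijective f).2 (inv (toBase f j hj C) ≫ spMap φ)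
    exact ⟨g, spMap_injective (by rw [phiH_spec, hg, IsIso.hom_inv_id_assoc])⟩

theorem phiH_map (α : H' →ₐc[O] H) (g : P j C ⟶ Red.bc f (sp O H)) :
    phiH f j hj (g ≫ (Over.pullback f).map (SekSuwa.specHom α)) = (phiH f j hj g).comp (α : H' →ₐ[O] H) := by
  refine spMap_injective ?_
  rw [phiH_spec, ← spMap_comp, phiH_spec, Category.assoc]
  refine congrArg (toBase f j hj C ≫ ·) ?_
  exact (Over.mapPullbackAdj f).homEquiv_naturality_right_symm g (SekSuwa.specHom α)

include hj in
theorem bijective_comp_alphaN {lam : O} {N : ℕ} (h : SekSuwa.DivCond lam N) (hN : 0 < N)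
    (hl : IsUnit (algebraMap O C lam)) :
    Function.Bijective fun g : P j C ⟶ Red.bc f (SekSuwa.GK O lam N h) =>
      g ≫ (Over.pullback f).map (SekSuwa.alphaN O lam N h) := by
  have e : phiH f j hj (H := MonoidAlgebra O (Multiplicative (ZMod N))) ∘
      (fun g : P j C ⟶ Red.bc f (SekSuwa.GK O lam N h) => g ≫ (Over.pullback f).map (SekSuwa.alphaN O lam N h)) =
      (fun φ : SekSuwa.AK O lam N h →ₐ[O] C => φ.comp (SekSuwa.alphaNHom O lam N h :
        MonoidAlgebra O (Multiplicative (ZMod N)) →ₐ[O] SekSuwa.AK O lam N h)) ∘ phiH f j hj :=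
    funext fun g => phiH_map f j hj (SekSuwa.alphaNHom O lam N h) g
  exact (Function.Bijective.of_comp_iff' (phiH_bijective f j hj) _).1
    (e ▸ (bijective_alphaN h hN hl).comp (phiH_bijective f j hj))

end Points

/-- A point of a locally trivial scheme over a faithfully flat algebra of a field. -/
theorem exists_cover_field {X : Scheme.{u}} {Y : Over X}
    (h : NonAbH1.IsLocallyTrivialFor Scheme.fppfPrecoverage Y) (K : Type u) [Field K]
    (j : Spec (CommRingCat.of K) ⟶ X) :
    ∃ (L : Type u) (_ : Field L) (_ : Algebra K L), Nonempty (P j L ⟶ Y) := by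
  obtain ⟨Rc, hR, hsec⟩ := h
  obtain ⟨I, U, g, rfl⟩ := Rc.exists_eq_ofArrows
  obtain ⟨x⟩ : Nonempty ↥(Spec (CommRingCat.of K)) := inferInstance
  obtain ⟨i, y, hy⟩ := ((Scheme.ofArrows_mem_precoverage_iff _).1 hR).1 (j x)
  obtain ⟨z, -, -⟩ := Scheme.Pullback.exists_preimage_pullback (f := g i) (g := j) y x hy
  let L := (pullback (g i) j).residueField z
  obtain ⟨s, hs⟩ := hsec (g i) (.mk i)
  let π : Spec L ⟶ Spec (CommRingCat.of K) := (pullback (g i) j).fromSpecResidueField z ≫ pullback.snd _ _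
  letI : Algebra K L := (Spec.preimage π).hom.toAlgebra
  refine ⟨L, inferInstance, inferInstance,
    ⟨Over.homMk ((pullback (g i) j).fromSpecResidueField z ≫ pullback.fst _ _ ≫ s) ?_⟩⟩
  change _ = Spec.map (Spec.preimage π) ≫ j
  rw [Spec.map_preimage, Category.assoc, Category.assoc, hs, pullback.condition]
  simp only [π, Category.assoc]

/-- A torsor under `G_{λ,N}` over a normal integral scheme whose push forward is trivial is trivial. -/
theorem hasSection_of_push {O : Type u} [CommRing O] {lam : O} {N : ℕ} (h : SekSuwa.DivCond lam N) (hN : 0 < N)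
    {X : Scheme.{u}} [IsIntegral X] (hX : Pi1.IsNormalScheme X) (f : X ⟶ Spec (CommRingCat.of O)) [Flat f]
    {Y : Over X} (a : AlgGrp.Action (Red.bc f (SekSuwa.GK O lam N h)) Y)
    (hY : NonAbH1.IsTorsorFor Scheme.fppfPrecoverage a)
    {Y' : Over X} (a' : AlgGrp.Action (Red.bc f (Red.diag O (ZMod N))) Y')
    (hY' : NonAbH1.IsPseudoTorsorSch a')
    (hpush : NonAbH1.IsPushforwardAlongSch ((Over.pullback f).map (SekSuwa.alphaN O lam N h)) a a')
    (htriv : NonAbH1.HasSectionOver Y' (𝟙 X)) : NonAbH1.HasSectionOver Y (𝟙 X) := by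
  obtain ⟨π, hπ⟩ := hpush
  obtain ⟨σ', hσ'⟩ := htriv
  let K : Type u := X.functionField
  let j : Spec (CommRingCat.of K) ⟶ X := X.fromSpecStalk (genericPoint X)
  letI : Algebra O K := (Spec.preimage (j ≫ f)).hom.toAlgebra
  have hj : j ≫ f = Spec.map (CommRingCat.ofHom (algebraMap O K)) := (Spec.map_preimage (j ≫ f)).symm
  haveI : Module.Flat O K := by
    haveI : Flat j := GrpSchLib.flat_fromSpecStalk _
    have : Flat (j ≫ f) := inferInstance
    rw [hj, HasRingHomProperty.Spec_iff (P := @Flat)] at this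
    exact RingHom.flat_algebraMap_iff.1 this
  have hlK : algebraMap O K lam ≠ 0 := fun h0 => one_ne_zero (α := K)
    (Module.Flat.isSMulRegular_of_nonZeroDivisors (M := K) h.nzd (by
      change lam • (1 : K) = lam • (0 : K)
      rw [Algebra.smul_def, Algebra.smul_def, h0, zero_mul, zero_mul]))
  obtain ⟨L, _, _, ⟨x₀⟩⟩ := exists_cover_field hY.2 K j
  letI : Algebra O L := ((algebraMap K L).comp (algebraMap O K)).toAlgebra
  haveI : IsScalarTower O K L := IsScalarTower.of_algebraMap_eq' rfl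
  haveI : Module.FaithfullyFlat K L := inferInstance
  have hlu : IsUnit (algebraMap O L lam) := by
    rw [IsScalarTower.algebraMap_apply O K L]
    exact (isUnit_iff_ne_zero.2 hlK).map _
  let sL : P j L ⟶ Y' := Over.homMk (Spec.map (CommRingCat.ofHom (algebraMap K L)) ≫ j ≫ σ')
    (by change (_ ≫ _ ≫ σ') ≫ Y'.hom = _; rw [Category.assoc, Category.assoc, hσ', Category.comp_id]; rfl)
  have hequi : ∀ {T : Over X} (g : T ⟶ Red.bc f (SekSuwa.GK O lam N h)) (x : T ⟶ Y),
      (lift g x ≫ a.act) ≫ π = lift (g ≫ (Over.pullback f).map (SekSuwa.alphaN O lam N h)) (x ≫ π) ≫ a'.act :=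
    fun g x => by rw [Category.assoc, hπ, comp_lift_assoc, lift_fst_assoc, lift_snd_assoc]
  obtain ⟨m, hm⟩ := SchTorsor.exists_div hY' sL (x₀ ≫ π)
  obtain ⟨g, rfl⟩ := (bijective_comp_alphaN f j hj h hN hlu).2 m
  let x : P j L ⟶ Y := lift g x₀ ≫ a.act
  have hx : x ≫ π = sL := (hequi g x₀).trans hm
  clear_value x
  have hfree : ∀ {C : Type u} [CommRing C] [Algebra K C] [Algebra O C] [IsScalarTower O K C]
      (_ : IsUnit (algebraMap O C lam)) (y y' : P j C ⟶ Y), y ≫ π = y' ≫ π → y = y' := by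
    intro C _ _ _ _ hC y y' e
    obtain ⟨d, hd⟩ := SchTorsor.exists_div hY.1 y y'
    have hd1 : d ≫ (Over.pullback f).map (SekSuwa.alphaN O lam N h) =
        (1 : P j C ⟶ Red.bc f (SekSuwa.GK O lam N h)) ≫ (Over.pullback f).map (SekSuwa.alphaN O lam N h) := by
      refine SchTorsor.act_free hY' (y := y' ≫ π) ?_
      rw [← hequi, ← hequi, hd, SchTorsor.one_act_pt, e]
    rw [← hd, (bijective_comp_alphaN f j hj h hN hC).1 hd1, SchTorsor.one_act_pt]
  have hgd : gd j hY.1 x (iL K L) (iR K L) = 1 := by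
    refine (gd_unique j hY.1 x ?_).symm
    rw [SchTorsor.one_act_pt]
    have hu : IsUnit (algebraMap O (L ⊗[K] L) lam) := by
      rw [IsScalarTower.algebraMap_apply O L (L ⊗[K] L)]
      exact hlu.map _
    refine hfree hu _ _ ?_
    rw [Category.assoc, Category.assoc, hx]
    ext1
    change Spec.map _ ≫ Spec.map _ ≫ j ≫ σ' = Spec.map _ ≫ Spec.map _ ≫ j ≫ σ'
    rw [← Spec.map_comp_assoc, ← Spec.map_comp_assoc, ← CommRingCat.ofHom_comp, ← CommRingCat.ofHom_comp]
    congr 3
    exact RingHom.ext fun r => ((iR K L).commutes r).trans ((iL K L).commutes r).symm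
  obtain ⟨t, ht⟩ := hasSection_of_coboundary j hY.1 x 1
    (hgd.trans (by rw [MonObj.comp_one, MonObj.comp_one, inv_one, _root_.mul_one]))
  have hfppf : NonAbH1.IsTorsorFor Scheme.fpqcPrecoverage a :=
    ⟨hY.1, let ⟨C, hC, hsec⟩ := hY.2; ⟨C, Scheme.fppfPrecoverage_le_fpqcPrecoverage _ hC, hsec⟩⟩
  obtain ⟨b, -⟩ := SekSuwaLib.exists_basis_pow h hN
  haveI : Module.Finite O (SekSuwa.AK O lam N h) := Module.Finite.of_basis b
  haveI : IsIntegralHom (Red.bc f (SekSuwa.GK O lam N h)).hom := by
    refine MorphismProperty.pullback_snd (P := @IsIntegralHom) _ _ ?_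
    change IsIntegralHom (Spec.map (CommRingCat.ofHom (algebraMap O (SekSuwa.AK O lam N h))))
    rw [IsIntegralHom.SpecMap_iff]
    exact RingHom.IsIntegral.of_finite (RingHom.finite_algebraMap.2 ‹_›)
  haveI := EtFound.fpqc_isIntegralHom.{u}
  haveI : IsIntegralHom Y.hom := SchTorsor.torsor_property @IsIntegralHom hfppf ‹_›
  obtain ⟨σ, hσ, -⟩ := SchTorsor.exists_section_of_normal hX Y.hom t ht
  exact ⟨σ, hσ⟩

end Groth.Agent.GlamTors
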