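import Groth.Agent.GlamTors.Coord
import Groth.Agent.GlamTors.Flat
import Groth.Agent.AssocBdl.Extension

/-!
# Torsors under `G^(λ)` over a scheme with trivial Picard group
-/

set_option autoImplicit false
set_option linter.style.haveILetI false
set_option backward.isDefEq.respectTransparency.types false
universe u

open CategoryTheory CategoryTheory.Limits MonoidalCategory CartesianMonoidalCategory MonObj GrpObj AlgebraicGeometry

attribute [local instance] CategoryTheory.Hom.monoid CategoryTheory.Hom.group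

noncomputable section

namespace Groth.Agent.GlamTors

theorem toUnit_left {X : Scheme.{u}} (Y : Over X) : (toUnit Y).left = Y.hom := by
  rw [← Over.w (toUnit Y)]
  exact (Category.comp_id _).symm

/-- A pseudo-torsor is a cartesian square over the base. -/
theorem isPullback_iff_pseudo {X : Scheme.{u}} {G P Y : Over X} [GrpObj G] (a : AlgGrp.Action G P) (r : P ⟶ Y)
    (hY : IsTerminal Y) : IsPullback a.act (snd G P) r r ↔ NonAbH1.IsPseudoTorsorSch a := by
  have hprod : IsPullback (fst P P) (snd P P) r r := by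
    have h := IsPullback.of_is_product (C := Over X) (tensorProductIsBinaryProduct P P) hY
    have e : hY.from P = r := hY.hom_ext _ _
    simpa [e] using h
  constructor
  · intro h
    rw [NonAbH1.IsPseudoTorsorSch,
      show lift a.act (snd G P) = (h.isoIsPullback _ _ hprod).hom from hprod.hom_ext (by simp) (by simp)]
    infer_instance
  · intro h
    haveI : IsIso (lift a.act (snd G P)) := h
    exact hprod.of_iso (asIso (lift a.act (snd G P))).symm (Iso.refl _) (Iso.refl _) (Iso.refl _)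
      (by simp) (by simp) (by simp) (by simp)

theorem appTop_isoSpec_inv (W : Scheme.{u}) [IsAffine W] :
    W.isoSpec.inv.appTop = (Scheme.ΓSpecIso Γ(W, ⊤)).inv := by
  rw [← Iso.comp_hom_eq_id, ← Scheme.toSpecΓ_appTop, ← Scheme.isoSpec_hom, ← Scheme.Hom.comp_appTop,
    Iso.hom_inv_id, Scheme.Hom.id_appTop]

section Triv

variable {O : Type u} [CommRing O] (lam : O) {X : Scheme.{u}} (f : X ⟶ Spec (CommRingCat.of O))

/-- The closed subscheme on which `λ` vanishes. -/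
abbrev zeroLocus : Scheme.{u} :=
  pullback f (Spec.map (CommRingCat.ofHom (Ideal.Quotient.mk (Ideal.span ({lam} : Set O)))))

/-- Its inclusion. -/
abbrev zeroIncl : zeroLocus lam f ⟶ X := pullback.fst f _

theorem lamF_zero {T : Over X} (c : T.left ⟶ zeroLocus lam f) (hc : c ≫ zeroIncl lam f = T.hom) :
    lamF lam f T = 0 := by
  have h : T.hom ≫ f = (c ≫ pullback.snd _ _) ≫
      Spec.map (CommRingCat.ofHom (Ideal.Quotient.mk (Ideal.span ({lam} : Set O)))) := by
    rw [← hc, Category.assoc, Category.assoc, pullback.condition]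
  show ((Scheme.ΓSpecIso (CommRingCat.of O)).inv ≫ (T.hom ≫ f).appTop).hom lam = 0
  rw [h, SekSuwaLib.appTop_comp_SpecMap]
  show _ = (0 : Γ(T.left, ⊤))
  have h0 : Ideal.Quotient.mk (Ideal.span ({lam} : Set O)) lam = 0 :=
    Ideal.Quotient.eq_zero_iff_mem.2 (Ideal.mem_span_singleton_self lam)
  refine (congrArg (fun z => ((Scheme.ΓSpecIso _).inv ≫ (c ≫ pullback.snd _ _).appTop).hom z) h0).trans ?_
  exact map_zero _

/-- The map to the base, as a map over it. -/
def toX (T : Over X) : T ⟶ Over.mk (𝟙 X) := Over.homMk T.hom (Category.comp_id _)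

theorem toX_comp {T T' : Over X} (c : T' ⟶ T) : c ≫ toX T = toX T' :=
  Over.OverMorphism.ext (Over.w c)

theorem exists_lift_alpha {T : Over X} [IsAffine T.left] (q : T ⟶ GmX f)
    (hq : ∀ (T' : Over X) (c : T' ⟶ T), (T' ⟶ Over.mk (zeroIncl lam f)) → c ≫ q = 1) :
    ∃ h : T ⟶ Red.bc f (SekSuwa.G O lam), h ≫ (Over.pullback f).map (SekSuwa.alpha O lam) = q := by
  let D := Γ(T.left, ⊤)
  let l : D := lamF lam f T
  let m := CommRingCat.ofHom (Ideal.Quotient.mk (Ideal.span ({l} : Set D)))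
  let c : Spec (CommRingCat.of (D ⧸ Ideal.span ({l} : Set D))) ⟶ T.left := Spec.map m ≫ T.left.isoSpec.inv
  let ρ : O →+* D := SekSuwaLib.strHom ((Over.map f).obj T)
  let ρ₀ : O ⧸ Ideal.span ({lam} : Set O) →+* D ⧸ Ideal.span ({l} : Set D) :=
    Ideal.quotientMap _ ρ (by
      rw [Ideal.span_singleton_le_iff_mem]
      exact Ideal.mem_comap.2 (Ideal.mem_span_singleton_self l))
  have h1 : T.left.isoSpec.inv ≫ T.hom ≫ f = Spec.map (CommRingCat.ofHom ρ) := by
    rw [Iso.inv_comp_eq, Scheme.isoSpec_hom]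
    show _ = _ ≫ Spec.map ((Scheme.ΓSpecIso (CommRingCat.of O)).inv ≫ (T.hom ≫ f).appTop)
    rw [Spec.map_comp, ← Scheme.toSpecΓ_naturality_assoc, toSpecΓ_SpecMap_ΓSpecIso_inv, Category.comp_id]
  have hcf : (c ≫ T.hom) ≫ f = Spec.map (CommRingCat.ofHom ρ₀) ≫
      Spec.map (CommRingCat.ofHom (Ideal.Quotient.mk (Ideal.span ({lam} : Set O)))) := by
    simp only [c, Category.assoc]
    rw [h1, ← Spec.map_comp, ← Spec.map_comp]
    rfl
  let T₁ : Over X := Over.mk (c ≫ T.hom)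
  have e2 := hq T₁ (Over.homMk c) (Over.homMk (pullback.lift (c ≫ T.hom) (Spec.map (CommRingCat.ofHom ρ₀)) hcf)
    (pullback.lift_fst _ _ _))
  have e3 : Ideal.Quotient.mk (Ideal.span ({l} : Set D)) (zv f q - 1) = 0 := by
    have h := congrArg (zv f) e2
    rw [zv_comp, zv_one] at h
    change (Spec.map m ≫ T.left.isoSpec.inv).appTop (zv f q) = 1 at h
    rw [Scheme.Hom.comp_appTop, appTop_isoSpec_inv, ← Scheme.ΓSpecIso_inv_naturality] at h
    rw [map_sub, map_one, sub_eq_zero]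
    refine (Scheme.ΓSpecIso (CommRingCat.of (D ⧸ Ideal.span ({l} : Set D)))).symm.commRingCatIsoToRingEquiv.injective ?_
    rw [map_one]
    exact h
  obtain ⟨τ, hτ⟩ := Ideal.mem_span_singleton'.1 (Ideal.Quotient.eq_zero_iff_mem.1 e3)
  have hl : 1 + l * τ = zv f q := by rw [mul_comm l, hτ]; exact add_sub_cancel 1 (zv f q)
  obtain ⟨h, hh⟩ := exists_tv lam f (T := T) τ (by rw [hl]; exact isUnit_zv f q)
  exact ⟨h, zv_inj f (by rw [zv_alpha, hh]; exact hl)⟩

variable {P : Over X} (a : AlgGrp.Action (Red.bc f (SekSuwa.G O lam)) P) (v : ∀ {T : Over X}, (T ⟶ P) → (T ⟶ GmX f))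
  (hv : ∀ {T' T : Over X} (c : T' ⟶ T) (y : T ⟶ P), v (c ≫ y) = c ≫ v y)
  (hve : ∀ {T : Over X} (g : T ⟶ Red.bc f (SekSuwa.G O lam)) (y : T ⟶ P),
    v (lift g y ≫ a.act) = (g ≫ (Over.pullback f).map (SekSuwa.alpha O lam)) * v y)

include hve in
theorem kill (hps : NonAbH1.IsPseudoTorsorSch a) {T : Over X} (hT : lamF lam f T = 0) (p p' : T ⟶ P) :
    v p = v p' := by
  obtain ⟨d, hd⟩ := SchTorsor.exists_div hps p p'
  rw [← hd, hve, alpha_eq_one lam f hT]
  exact _root_.one_mul (v p')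

include hve in
theorem v_inj (hlam : lam ∈ nonZeroDivisors O) (hps : NonAbH1.IsPseudoTorsorSch a) {T : Over X} [Flat (T.hom ≫ f)]
    {p p' : T ⟶ P} (e : v p = v p') : p = p' := by
  obtain ⟨d, hd⟩ := SchTorsor.exists_div hps p p'
  have hd1 : d = 1 := by
    refine alpha_inj lam f hlam ?_
    rw [← hd, hve] at e
    have e1 := hve (1 : T ⟶ Red.bc f (SekSuwa.G O lam)) p'
    rw [SchTorsor.one_act_pt] at e1
    letI : Group (T ⟶ GmX f) := CategoryTheory.Hom.group
    exact mul_right_cancel (e.trans e1)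
  rw [hd1, SchTorsor.one_act_pt] at hd
  exact hd.symm

include hv hve in
/-- The function is constant where `λ` vanishes. -/
theorem exists_const (hps : NonAbH1.IsPseudoTorsorSch a) (𝒰 : X.OpenCover) (x : ∀ s, Over.mk (𝒰.f s) ⟶ P) :
    ∃ w : Over.mk (zeroIncl lam f) ⟶ GmX f,
      ∀ (T : Over X) (c : T ⟶ Over.mk (zeroIncl lam f)) (y : T ⟶ P), v y = c ≫ w := by
  let i₀ := zeroIncl lam f
  let 𝒰₀ : (zeroLocus lam f).OpenCover := 𝒰.pullback₁ i₀
  let c₀ : ∀ s : 𝒰.I₀, (Over.mk (pullback.fst i₀ (𝒰.f s) ≫ i₀) ⟶ Over.mk (𝒰.f s)) := fun s =>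
    Over.homMk (pullback.snd i₀ (𝒰.f s)) pullback.condition.symm
  let w₀ : ∀ s : 𝒰.I₀, pullback i₀ (𝒰.f s) ⟶ (GmX f).left := fun s => (v (c₀ s ≫ x s)).left
  have hcompat : ∀ s t : 𝒰.I₀, pullback.fst (pullback.fst i₀ (𝒰.f s)) (pullback.fst i₀ (𝒰.f t)) ≫ w₀ s =
      pullback.snd (pullback.fst i₀ (𝒰.f s)) (pullback.fst i₀ (𝒰.f t)) ≫ w₀ t := by
    intro s t
    let T : Over X := Over.mk ((pullback.fst (pullback.fst i₀ (𝒰.f s)) (pullback.fst i₀ (𝒰.f t)) ≫
      pullback.fst i₀ (𝒰.f s)) ≫ i₀)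
    let p₁ : T ⟶ Over.mk (pullback.fst i₀ (𝒰.f s) ≫ i₀) := Over.homMk (pullback.fst _ _) (Category.assoc _ _ _).symm
    let p₂ : T ⟶ Over.mk (pullback.fst i₀ (𝒰.f t) ≫ i₀) := Over.homMk (pullback.snd _ _) (by
      change _ ≫ pullback.fst i₀ (𝒰.f t) ≫ i₀ = _
      rw [← Category.assoc, ← pullback.condition]; rfl)
    have h := kill lam f a @v hve hps (lamF_zero lam f (T := T) _ rfl) (p₁ ≫ c₀ s ≫ x s) (p₂ ≫ c₀ t ≫ x t)
    rw [hv p₁, hv p₂] at h
    exact congrArg CommaMorphism.left h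
  have hhom : 𝒰₀.glueMorphisms w₀ hcompat ≫ (GmX f).hom = i₀ :=
    𝒰₀.hom_ext _ _ fun s => (Scheme.Cover.ι_glueMorphisms_assoc 𝒰₀ w₀ hcompat s _).trans (Over.w (v (c₀ s ≫ x s)))
  let w : Over.mk i₀ ⟶ GmX f := Over.homMk (𝒰₀.glueMorphisms w₀ hcompat) hhom
  refine ⟨w, fun T c y => Over.OverMorphism.ext (Scheme.Cover.hom_ext (𝒰₀.pullback₁ c.left) _ _ fun s => ?_)⟩
  let T' : Over X := Over.mk ((pullback.fst c.left (𝒰₀.f s) ≫ c.left) ≫ i₀)
  let p : T' ⟶ T := Over.homMk (pullback.fst c.left (𝒰₀.f s)) (by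
    change _ = (_ ≫ c.left) ≫ i₀
    rw [Category.assoc, show c.left ≫ i₀ = T.hom from Over.w c])
  let p' : T' ⟶ Over.mk (pullback.fst i₀ (𝒰.f s) ≫ i₀) := Over.homMk (pullback.snd c.left (𝒰₀.f s)) (by
    change _ ≫ 𝒰₀.f s ≫ i₀ = _
    rw [← Category.assoc, ← pullback.condition]; rfl)
  have h := kill lam f a @v hve hps (lamF_zero lam f (T := T') _ rfl) (p ≫ y) (p' ≫ c₀ s ≫ x s)
  rw [hv p, hv p'] at h
  refine (congrArg CommaMorphism.left h).trans ?_
  change pullback.snd c.left (𝒰₀.f s) ≫ w₀ s = pullback.fst c.left (𝒰₀.f s) ≫ c.left ≫ 𝒰₀.glueMorphisms w₀ hcompat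
  rw [← Category.assoc, pullback.condition, Category.assoc]
  exact congrArg (pullback.snd c.left (𝒰₀.f s) ≫ ·) (Scheme.Cover.ι_glueMorphisms 𝒰₀ w₀ hcompat s).symm

include hv hve in
/-- An equivariant function trivialises the torsor. -/
theorem hasSection_of_fun [Flat f] (hlam : lam ∈ nonZeroDivisors O) (hps : NonAbH1.IsPseudoTorsorSch a)
    (hz : NonAbH1.IsLocallyTrivialFor Scheme.zariskiPrecoverage P)
    (hunit : Function.Surjective (Units.map (zeroIncl lam f).appTop.hom.toMonoidHom)) :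
    NonAbH1.HasSectionOver P (𝟙 X) := by
  classical
  obtain ⟨Rc, hRc, hsec⟩ := hz
  obtain ⟨I, U₀, u₀, rfl⟩ := Rc.exists_eq_ofArrows
  obtain ⟨hcov, hopen⟩ := (Scheme.ofArrows_mem_precoverage_iff _).1 hRc
  choose ι' y hy using hcov
  choose V hV hyV _ using fun s => exists_isAffineOpen_mem_and_subset (x := y s) (U := ⊤) trivial
  choose σ hσ using fun i => hsec (u₀ i) (.mk i)
  haveI : ∀ i, IsOpenImmersion (u₀ i) := hopen
  let 𝒰 : X.OpenCover :=
    { I₀ := X
      X := fun s => (V s).toScheme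
      f := fun s => (V s).ι ≫ u₀ (ι' s)
      mem₀ := by
        rw [Scheme.ofArrows_mem_precoverage_iff]
        exact ⟨fun s => ⟨s, ⟨y s, hyV s⟩, hy s⟩, fun s => inferInstance⟩ }
  let x : ∀ s : 𝒰.I₀, (Over.mk (𝒰.f s) ⟶ P) := fun s => Over.homMk ((V s).ι ≫ σ (ι' s)) (by
    change ((V s).ι ≫ σ (ι' s)) ≫ P.hom = (V s).ι ≫ u₀ (ι' s)
    rw [Category.assoc, hσ])
  obtain ⟨w, hw⟩ := exists_const lam f a @v hv hve hps 𝒰 x
  obtain ⟨W, hW⟩ := hunit (isUnit_zv f w).unit
  obtain ⟨Wp, hWp⟩ := exists_zv f (T := Over.mk (𝟙 X)) W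
  have hWw : toX (Over.mk (zeroIncl lam f)) ≫ Wp = w := by
    refine zv_inj f ?_
    rw [zv_comp, hWp]
    exact congrArg Units.val hW
  have hh : ∀ s : 𝒰.I₀, ∃ h : Over.mk (𝒰.f s) ⟶ Red.bc f (SekSuwa.G O lam),
      (h ≫ (Over.pullback f).map (SekSuwa.alpha O lam)) * v (x s) = toX _ ≫ Wp := by
    intro s
    haveI : IsAffine (Over.mk (𝒰.f s)).left := hV s
    obtain ⟨h, hh⟩ := exists_lift_alpha lam f ((toX _ ≫ Wp) * (v (x s))⁻¹) fun T' c d => by
      rw [MonObj.comp_mul, GrpObj.comp_inv, ← hv c, hw T' d, ← hWw, ← Category.assoc, ← Category.assoc,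
        toX_comp, toX_comp, mul_inv_cancel]
    exact ⟨h, by rw [hh, inv_mul_cancel_right]⟩
  choose h hh using hh
  let x' : ∀ s : 𝒰.I₀, (Over.mk (𝒰.f s) ⟶ P) := fun s => lift (h s) (x s) ≫ a.act
  have hvx' : ∀ s, v (x' s) = toX _ ≫ Wp := fun s => (hve _ _).trans (hh s)
  have hcompat' : ∀ s t, pullback.fst (𝒰.f s) (𝒰.f t) ≫ (x' s).left =
      pullback.snd (𝒰.f s) (𝒰.f t) ≫ (x' t).left := by
    intro s t
    let T : Over X := Over.mk (pullback.fst (𝒰.f s) (𝒰.f t) ≫ 𝒰.f s)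
    let p₁ : T ⟶ Over.mk (𝒰.f s) := Over.homMk (pullback.fst _ _)
    let p₂ : T ⟶ Over.mk (𝒰.f t) := Over.homMk (pullback.snd _ _) pullback.condition.symm
    haveI : Flat (T.hom ≫ f) := inferInstanceAs (Flat ((pullback.fst (𝒰.f s) (𝒰.f t) ≫ 𝒰.f s) ≫ f))
    have e : v (p₁ ≫ x' s) = v (p₂ ≫ x' t) := by
      rw [hv p₁ (x' s), hv p₂ (x' t), hvx' s, hvx' t, ← Category.assoc, ← Category.assoc, toX_comp, toX_comp]
    exact congrArg CommaMorphism.left (v_inj lam f a @v hve hlam hps e)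
  refine ⟨𝒰.glueMorphisms (fun s => (x' s).left) hcompat', 𝒰.hom_ext _ _ fun s => ?_⟩
  rw [Scheme.Cover.ι_glueMorphisms_assoc, Category.comp_id]
  exact Over.w (x' s)

end Triv

/-- `H¹(X, G^(λ)) = 1` when the units lift and the Picard group vanishes. -/
theorem hasSection_of_pic {O : Type u} [CommRing O] {lam : O} (hlam : lam ∈ nonZeroDivisors O) {X : Scheme.{u}}
    (f : X ⟶ Spec (CommRingCat.of O)) [Flat f]
    (hunit : Function.Surjective (Units.map (zeroIncl lam f).appTop.hom.toMonoidHom))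
    (hpic : ∀ (Q : Over X) (b : AlgGrp.Action (GmX f) Q),
      NonAbH1.IsTorsorFor Scheme.fppfPrecoverage b → NonAbH1.HasSectionOver Q (𝟙 X))
    {P : Over X} (a : AlgGrp.Action (Red.bc f (SekSuwa.G O lam)) P)
    (hP : NonAbH1.IsTorsorFor Scheme.fppfPrecoverage a) : NonAbH1.HasSectionOver P (𝟙 X) := by
  obtain ⟨Rc, hRc, hsec⟩ := hP.2
  have hfpqc : NonAbH1.IsTorsorFor Scheme.fpqcPrecoverage a :=
    ⟨hP.1, Rc, Scheme.fppfPrecoverage_le_fpqcPrecoverage _ hRc, hsec⟩
  haveI : IsAffineHom (Red.bc f (SekSuwa.G O lam)).hom :=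
    MorphismProperty.pullback_snd (P := @IsAffineHom) _ _
      (inferInstanceAs (IsAffineHom (Spec.map (CommRingCat.ofHom (algebraMap O (SekSuwa.A O lam))))))
  haveI : Flat (Red.bc f (SekSuwa.G O lam)).hom :=
    MorphismProperty.pullback_snd (P := @Flat) _ _ (by
      change Flat (Spec.map (CommRingCat.ofHom (algebraMap O (SekSuwa.A O lam))))
      rw [HasRingHomProperty.Spec_iff (P := @Flat)]
      exact RingHom.flat_algebraMap_iff.2 (flat_A O lam))
  haveI : LocallyOfFinitePresentation (Red.bc f (SekSuwa.G O lam)).hom :=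
    MorphismProperty.pullback_snd (P := @LocallyOfFinitePresentation) _ _ (by
      change LocallyOfFinitePresentation (Spec.map (CommRingCat.ofHom (algebraMap O (SekSuwa.A O lam))))
      rw [HasRingHomProperty.Spec_iff (P := @LocallyOfFinitePresentation)]
      exact RingHom.finitePresentation_algebraMap.2 (finitePresentation_A O lam))
  haveI : IsAffineHom (GmX f).hom :=
    MorphismProperty.pullback_snd (P := @IsAffineHom) _ _
      (inferInstanceAs (IsAffineHom (Spec.map (CommRingCat.ofHom (algebraMap O (MonoidAlgebra O (Multiplicative ℤ)))))))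
  haveI := EtFound.fpqc_isAffineHom.{u}
  let φ : P ⟶ 𝟙_ (Over X) := toUnit P
  haveI : IsAffineHom φ.left := by
    rw [toUnit_left]; exact SchTorsor.torsor_property @IsAffineHom hfpqc ‹_›
  haveI : Flat φ.left := by
    rw [toUnit_left]; exact SchTorsor.torsor_property @Flat hfpqc ‹_›
  haveI : Surjective φ.left := by
    rw [toUnit_left]; exact SchTorsor.surjective_hom hfpqc
  haveI : LocallyOfFinitePresentation φ.left := by
    rw [toUnit_left]; exact SchTorsor.torsor_property @LocallyOfFinitePresentation hfpqc ‹_›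
  let q := (Over.pullback f).map (SekSuwa.alpha O lam)
  obtain ⟨Z, π, r, bQ, hπr, -, hsq, -, -, -, -, hr, hrel⟩ :=
    AssocBdl.exists_pushout q a φ ((isPullback_iff_pseudo a φ isTerminalTensorUnit).2 hP.1)
  have hbQ : NonAbH1.IsTorsorFor Scheme.fppfPrecoverage bQ := by
    refine ⟨(isPullback_iff_pseudo bQ r isTerminalTensorUnit).1 hr, Rc, hRc, fun S' g hg => ?_⟩
    obtain ⟨s, hs⟩ := hsec g hg
    let y : Over.mk g ⟶ P := Over.homMk s hs
    exact ⟨(lift y (1 : Over.mk g ⟶ GmX f) ≫ π).left, Over.w _⟩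
  obtain ⟨σ, hσ⟩ := hpic Z bQ hbQ
  let sig : 𝟙_ (Over X) ⟶ Z := Over.homMk σ hσ
  have hex : ∀ {T : Over X} (y : T ⟶ P), ∃ v : T ⟶ GmX f, lift y v ≫ π = toUnit T ≫ sig := fun {T} y => by
    obtain ⟨l, hl₁, hl₂⟩ := hsq.exists_lift y (toUnit T ≫ sig) (toUnit_unique _ _)
    refine ⟨l ≫ snd P (GmX f), ?_⟩
    rw [← hl₁, lift_comp_fst_snd, hl₂]
  choose v hv using @hex
  have huniq : ∀ {T : Over X} (y : T ⟶ P) (w : T ⟶ GmX f), lift y w ≫ π = toUnit T ≫ sig → w = v y :=
    fun y w hw => by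
      have h : lift y w = lift y (v y) := hsq.hom_ext (by simp) (hw.trans (hv y).symm)
      simpa using congrArg (· ≫ snd P (GmX f)) h
  refine hasSection_of_fun lam f a @v (fun c y => ?_) (fun g y => ?_) hlam hP.1
    (zariski lam f hlam hP.1 hfpqc.2) hunit
  · refine (huniq _ _ ?_).symm
    rw [← comp_lift, Category.assoc, hv, ← Category.assoc, comp_toUnit]
  · refine (huniq _ _ ?_).symm
    have h := hrel g (lift y (v y))
    rw [lift_fst, lift_snd] at h
    rw [h, hv]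

end Groth.Agent.GlamTors
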