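import Groth.Prelude.Def_SekSuwa
import Groth.Agent.GlamTors.Algebra
import Groth.Agent.Tors9.Descent
import Groth.Agent.GrpSchLib.AffineHopf
import Groth.Agent.DSPtsLib.Basic
import Mathlib.RingTheory.HopfAlgebra.Basic

/-!
# Torsors under `G^(λ)` are Zariski locally trivial
-/

set_option autoImplicit false
set_option linter.style.haveILetI false
set_option backward.isDefEq.respectTransparency.types false
universe u

open CategoryTheory CategoryTheory.Limits MonoidalCategory CartesianMonoidalCategory MonObj GrpObj AlgebraicGeometry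
open scoped TensorProduct
open Groth.Agent.GrpSchLib.AffineHopf Groth.Agent.Tors9 WithConv

noncomputable section

namespace Groth.Agent.GlamTors

variable {O : Type u} [CommRing O] (lam : O) {X : Scheme.{u}} (f : X ⟶ Spec (CommRingCat.of O))
variable {R : Type u} [CommRing R] (j : Spec (CommRingCat.of R) ⟶ X) [Algebra O R]
  (hj : j ≫ f = Spec.map (CommRingCat.ofHom (algebraMap O R)))
variable {C C' : Type u} [CommRing C] [Algebra R C] [Algebra O C] [IsScalarTower O R C]
  [CommRing C'] [Algebra R C'] [Algebra O C'] [IsScalarTower O R C']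

include hj in
theorem hom_eq : Spec.map (CommRingCat.ofHom (algebraMap R C)) ≫ j ≫ f =
    Spec.map (CommRingCat.ofHom (algebraMap O C)) := by
  rw [hj, ← Spec.map_comp, ← CommRingCat.ofHom_comp, ← IsScalarTower.algebraMap_eq]

include hj in
/-- The spectrum of `C` seen over the base ring. -/
def toBase (C : Type u) [CommRing C] [Algebra R C] [Algebra O C] [IsScalarTower O R C] :
    sp O C ⟶ (Over.map f).obj (P j C) :=
  Over.homMk (𝟙 _) (by
    refine (Category.id_comp _).trans ?_
    change (Spec.map _ ≫ j) ≫ f = Spec.map _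
    rw [Category.assoc, hom_eq f j hj])

include hj in
/-- The algebra map of a point. -/
def phi (g : P j C ⟶ Red.bc f (SekSuwa.G O lam)) : SekSuwa.A O lam →ₐ[O] C :=
  (Spec.mapMulEquiv.symm (toBase f j hj C ≫ DSPtsLib.theta f g)).ofConv

include hj in
/-- The coordinate of a point. -/
def valG (g : P j C ⟶ Red.bc f (SekSuwa.G O lam)) : C := phi lam f j hj g SekSuwa.A.t

theorem phi_spec (g : P j C ⟶ Red.bc f (SekSuwa.G O lam)) :
    spMap (phi lam f j hj g) = toBase f j hj C ≫ DSPtsLib.theta f g := by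
  rw [spMap_eq_mapMulEquiv, phi, toConv_ofConv]
  exact Spec.mapMulEquiv.apply_symm_apply _

theorem valG_mul (g g' : P j C ⟶ Red.bc f (SekSuwa.G O lam)) :
    valG lam f j hj (g * g') = valG lam f j hj g + valG lam f j hj g' +
      algebraMap O C lam * (valG lam f j hj g * valG lam f j hj g') := by
  simp only [valG]
  conv_lhs => rw [phi, DSPtsLib.theta_mul, MonObj.comp_mul, map_mul]
  rw [AlgHom.convMul_apply, SekSuwa.A.comul_t, map_add, map_add, map_smul, Algebra.TensorProduct.lift_tmul,
    Algebra.TensorProduct.lift_tmul, Algebra.TensorProduct.lift_tmul, map_one, map_one, _root_.mul_one, _root_.one_mul,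
    Algebra.smul_def]
  rfl

theorem valG_comp (χ : C →ₐ[R] C') (g : P j C ⟶ Red.bc f (SekSuwa.G O lam)) :
    valG lam f j hj (Pmap j χ ≫ g) = χ (valG lam f j hj g) := by
  have h : phi lam f j hj (Pmap j χ ≫ g) = (χ.restrictScalars O).comp (phi lam f j hj g) := by
    refine spMap_injective ?_
    rw [phi_spec, ← spMap_comp, phi_spec, DSPtsLib.theta_comp, ← Category.assoc, ← Category.assoc]
    refine congrArg (· ≫ DSPtsLib.theta f g) (Over.OverMorphism.ext ?_)
    exact (Category.id_comp _).trans (Category.comp_id _).symm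
  rw [valG, h]
  rfl

theorem isUnit_valG (g : P j C ⟶ Red.bc f (SekSuwa.G O lam)) :
    IsUnit (1 + algebraMap O C lam * valG lam f j hj g) := by
  have h := SekSuwa.A.isUnit_u.map (phi lam f j hj g)
  rwa [SekSuwa.A.u_def, map_add, map_one, map_mul, AlgHom.commutes] at h

theorem valG_inj {g g' : P j C ⟶ Red.bc f (SekSuwa.G O lam)}
    (h : valG lam f j hj g = valG lam f j hj g') : g = g' := by
  have e : phi lam f j hj g = phi lam f j hj g' := by
    refine SekSuwa.A.algHom_ext h ?_
    have h1 := congrArg (phi lam f j hj g) (SekSuwa.A.u_mul_inv (R := O) (lam := lam))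
    have h2 := congrArg (phi lam f j hj g') (SekSuwa.A.u_mul_inv (R := O) (lam := lam))
    rw [map_mul, map_one, SekSuwa.A.u_def, map_add, map_one, map_mul, AlgHom.commutes] at h1 h2
    have h' : phi lam f j hj g SekSuwa.A.t = phi lam f j hj g' SekSuwa.A.t := h
    rw [h'] at h1
    exact left_inv_eq_right_inv (by rw [mul_comm]; exact h1) h2
  have e' := congrArg spMap e
  rw [phi_spec, phi_spec] at e'
  haveI : IsIso (toBase f j hj C).left := inferInstanceAs (IsIso (𝟙 _))
  haveI : IsIso (toBase f j hj C) :=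
    haveI : IsIso ((Over.forget _).map (toBase f j hj C)) := ‹IsIso (toBase f j hj C).left›
    isIso_of_reflects_iso (toBase f j hj C) (Over.forget _)
  exact (DSPtsLib.theta_bijective f).1 ((cancel_epi (toBase f j hj C)).1 e')

theorem exists_valG (c : C) (hc : IsUnit (1 + algebraMap O C lam * c)) :
    ∃ g : P j C ⟶ Red.bc f (SekSuwa.G O lam), valG lam f j hj g = c := by
  obtain ⟨v, hv⟩ := isUnit_iff_exists_inv.1 hc
  let φ : SekSuwa.A O lam →ₐ[O] C := SekSuwa.A.lift O lam c v (by rwa [Algebra.smul_def])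
  haveI : IsIso ((Over.forget _).map (toBase f j hj C)) := inferInstanceAs (IsIso (𝟙 _))
  haveI : IsIso (toBase f j hj C) := isIso_of_reflects_iso (toBase f j hj C) (Over.forget _)
  obtain ⟨g, hg⟩ := (DSPtsLib.theta_bijective f).2 (inv (toBase f j hj C) ≫ spMap φ)
  refine ⟨g, ?_⟩
  have e : phi lam f j hj g = φ := spMap_injective (by rw [phi_spec, hg, IsIso.hom_inv_id_assoc])
  rw [valG, e]
  exact SekSuwa.A.lift_t _ _ _

section Change

variable {R' : Type u} [CommRing R'] [Algebra R R'] [Algebra O R'] [IsScalarTower O R R']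
  {D : Type u} [CommRing D] [Algebra R D] [Algebra R' D] [IsScalarTower R R' D] [Algebra O D]
  [IsScalarTower O R D] [IsScalarTower O R' D]

include hj in
theorem hj' : j' j R' ≫ f = Spec.map (CommRingCat.ofHom (algebraMap O R')) := by
  rw [Category.assoc, hom_eq f j hj]

theorem valG_k (g : P j D ⟶ Red.bc f (SekSuwa.G O lam)) :
    valG lam f (j' j R') (hj' f j hj) (k j D ≫ g) = valG lam f j hj g := by
  have h : phi lam f (j' j R') (hj' f j hj) (k j D ≫ g) = phi lam f j hj g := by
    refine spMap_injective ?_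
    rw [phi_spec, phi_spec, DSPtsLib.theta_comp, ← Category.assoc]
    refine congrArg (· ≫ DSPtsLib.theta f g) (Over.OverMorphism.ext ?_)
    exact Category.id_comp _
  rw [valG, h]
  rfl

end Change

include hj in
theorem hasSection_near {B : Type u} [CommRing B] [Algebra R B] [Module.FaithfullyFlat R B]
    [Algebra O B] [IsScalarTower O R B]
    (hl : IsSMulRegular R (algebraMap O R lam)) {Y : Over X}
    {a : AlgGrp.Action (Red.bc f (SekSuwa.G O lam)) Y}
    (ha : NonAbH1.IsPseudoTorsorSch a) (x₀ : P j B ⟶ Y) (p : PrimeSpectrum R) :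
    ∃ r ∉ p.asIdeal, NonAbH1.HasSectionOver Y (j' j (Localization.Away r)) := by
  let t := valG lam f j hj (gd j ha x₀ (iL R B) (iR R B))
  have hU : IsUnit (1 + algebraMap R (B ⊗[R] B) (algebraMap O R lam) * t) := by
    rw [← IsScalarTower.algebraMap_apply O R (B ⊗[R] B)]
    exact isUnit_valG lam f j hj _
  have h := congrArg (valG lam f j hj) (gd_cocycle j ha x₀)
  rw [valG_mul, valG_comp, valG_comp, valG_comp, IsScalarTower.algebraMap_apply O R (B ⊗[R] (B ⊗[R] B))] at h
  obtain ⟨r, hr, s, hs, hrel⟩ := exists_coboundary (algebraMap O R lam) hl t hU h p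
  refine ⟨r, hr, ?_⟩
  let R' := Localization.Away r
  let B' := R' ⊗[R] B
  let q : B →ₐ[R] B' := Algebra.TensorProduct.includeRight
  haveI : IsScalarTower O R B' := IsScalarTower.to₁₂₄ O R R' B'
  haveI : IsScalarTower O R (B' ⊗[R'] B') := IsScalarTower.to₁₂₄ O R R' (B' ⊗[R'] B')
  obtain ⟨g, hg⟩ := exists_valG lam f (j' j R') (hj' f j hj) s hs
  refine hasSection_of_coboundary (j' j R') ha (k j B' ≫ Pmap j q ≫ x₀) g ?_
  rw [eq_mul_inv_iff_mul_eq]
  refine valG_inj lam f (j' j R') (hj' f j hj) ?_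
  rw [valG_mul, valG_comp, valG_comp, hg]
  have hlhs : valG lam f (j' j R') (hj' f j hj)
      (gd (j' j R') ha (k j B' ≫ Pmap j q ≫ x₀) (iL R' B') (iR R' B')) = sq (R' := R') q t := by
    have hL : (sq (R' := R') q).comp (iL R B) = ((iL R' B').restrictScalars R).comp q :=
      AlgHom.ext fun x => sq_iL q x
    have hR : (sq (R' := R') q).comp (iR R B) = ((iR R' B').restrictScalars R).comp q :=
      AlgHom.ext fun x => sq_iR q x
    rw [gd_change j ha x₀ q, valG_k, ← hL, ← hR, ← gd_comp, valG_comp]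
  rw [hlhs]
  exact hrel

/-- A locally trivial scheme over an affine piece has a point in a faithfully flat algebra. -/
theorem exists_cover {Y : Over X} (h : NonAbH1.IsLocallyTrivialFor Scheme.fpqcPrecoverage Y)
    (R : CommRingCat.{u}) (j : Spec R ⟶ X) [IsOpenImmersion j] :
    ∃ (B : Type u) (_ : CommRing B) (_ : Algebra R B), Module.FaithfullyFlat R B ∧
      Nonempty (P (R := R) j B ⟶ Y) := by
  obtain ⟨Z, p, hp₁, hp₂, hp₃, s, hs⟩ := SchTorsor.exists_single h j
  haveI : CompactSpace Z := QuasiCompact.compactSpace_of_compactSpace p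
  let 𝒰 := Z.affineCover.finiteSubcover
  let π := Sigma.desc fun i => 𝒰.f i
  haveI : Surjective π := ⟨fun z => ⟨Sigma.ι (fun i => 𝒰.X i) (𝒰.idx z) (𝒰.covers z).choose, by
    rw [← Scheme.Hom.comp_apply, Sigma.ι_desc]; exact (𝒰.covers z).choose_spec⟩⟩
  haveI : Flat π := IsZariskiLocalAtSource.sigmaDesc fun i => inferInstance
  let W := ∐ fun i => 𝒰.X i
  haveI : IsAffine W := inferInstance
  let q : Spec Γ(W, ⊤) ⟶ Spec R := W.isoSpec.inv ≫ π ≫ p
  haveI : Flat q := inferInstance
  haveI : Surjective q := inferInstance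
  letI : Algebra R Γ(W, ⊤) := (Spec.preimage q).hom.toAlgebra
  have hq : Spec.map (CommRingCat.ofHom (algebraMap R Γ(W, ⊤))) = q := Spec.map_preimage q
  refine ⟨Γ(W, ⊤), inferInstance, inferInstance, ?_, ⟨Over.homMk (W.isoSpec.inv ≫ π ≫ s) ?_⟩⟩
  · refine RingHom.faithfullyFlat_algebraMap_iff.mp
      (RingHom.FaithfullyFlat.iff_flat_and_comap_surjective.mpr ⟨?_, ?_⟩)
    · have : Flat (Spec.map (CommRingCat.ofHom (algebraMap R Γ(W, ⊤)))) := hq ▸ inferInstance
      rwa [HasRingHomProperty.Spec_iff (P := @Flat)] at this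
    · have : Surjective (Spec.map (CommRingCat.ofHom (algebraMap R Γ(W, ⊤)))) := hq ▸ inferInstance
      exact this.surj
  · change (W.isoSpec.inv ≫ π ≫ s) ≫ Y.hom = Spec.map (CommRingCat.ofHom (algebraMap R Γ(W, ⊤))) ≫ j
    rw [hq, Category.assoc, Category.assoc, hs]
    simp only [q, Category.assoc]

/-- Torsors under `G^(λ)` over a scheme on which `λ` is regular are Zariski locally trivial. -/
theorem zariski {Y : Over X} {a : AlgGrp.Action (Red.bc f (SekSuwa.G O lam)) Y} [Flat f]
    (hlam : lam ∈ nonZeroDivisors O)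
    (ha : NonAbH1.IsPseudoTorsorSch a) (h : NonAbH1.IsLocallyTrivialFor Scheme.fpqcPrecoverage Y) :
    NonAbH1.IsLocallyTrivialFor Scheme.zariskiPrecoverage Y := by
  refine isLocallyTrivial_zariski fun s => ?_
  obtain ⟨_, ⟨U, hU, rfl⟩, hs, -⟩ := X.isBasis_affineOpens.exists_subset_of_mem_open (Set.mem_univ s) isOpen_univ
  obtain ⟨B, _, _, hB, ⟨x₀⟩⟩ := exists_cover h Γ(X, U) hU.fromSpec
  letI : Algebra O Γ(X, U) := (Spec.preimage (hU.fromSpec ≫ f)).hom.toAlgebra
  have hj : hU.fromSpec ≫ f = Spec.map (CommRingCat.ofHom (algebraMap O Γ(X, U))) :=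
    (Spec.map_preimage (hU.fromSpec ≫ f)).symm
  haveI : Module.Flat O Γ(X, U) := by
    have : Flat (hU.fromSpec ≫ f) := inferInstance
    rw [hj, HasRingHomProperty.Spec_iff (P := @Flat)] at this
    exact RingHom.flat_algebraMap_iff.1 this
  have hl : IsSMulRegular Γ(X, U) (algebraMap O Γ(X, U) lam) :=
    fun x y e => Module.Flat.isSMulRegular_of_nonZeroDivisors (M := Γ(X, U)) hlam
      ((Algebra.smul_def lam x).trans (Eq.trans (by simpa only [smul_eq_mul] using e) (Algebra.smul_def lam y).symm))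
  letI : Algebra O B := ((algebraMap Γ(X, U) B).comp (algebraMap O Γ(X, U))).toAlgebra
  haveI : IsScalarTower O Γ(X, U) B := IsScalarTower.of_algebraMap_eq' rfl
  let p := hU.primeIdealOf ⟨s, hs⟩
  obtain ⟨r, hr, hsec⟩ := hasSection_near lam f (R := Γ(X, U)) hU.fromSpec hj hl ha x₀ p
  refine ⟨_, j' (R := Γ(X, U)) hU.fromSpec (Localization.Away r), inferInstance, ?_, hsec⟩
  have hp : p ∈ Set.range (PrimeSpectrum.comap (algebraMap Γ(X, U) (Localization.Away r))) := by
    rw [PrimeSpectrum.localization_away_comap_range (Localization.Away r) r]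
    exact hr
  obtain ⟨z, hz⟩ := hp
  exact ⟨z, (congrArg hU.fromSpec hz).trans (hU.fromSpec_primeIdealOf ⟨s, hs⟩)⟩

end Groth.Agent.GlamTors
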